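import Cfsg.Agent.H10.Fi23T.LData

set_option autoImplicit false
set_option linter.all false

namespace Cfsg.Agent.H10.Fi23T

open Cfsg.Agent.H35 Cfsg.Spor Cfsg.Agent.H10

noncomputable def gl_lfA (p : ℕ) : Bool := lvlOK t1689_pd gl_lab 0 gl_wsA 1 p
theorem gl_lvlA_b0 : allR gl_lfA 31671 12 (0 * 2 ^ 12) = true := by decide +kernel
theorem gl_lvlA_b1 : allR gl_lfA 31671 12 (1 * 2 ^ 12) = true := by decide +kernel
theorem gl_lvlA_b2 : allR gl_lfA 31671 12 (2 * 2 ^ 12) = true := by decide +kernel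
theorem gl_lvlA_b3 : allR gl_lfA 31671 12 (3 * 2 ^ 12) = true := by decide +kernel
theorem gl_lvlA_b4 : allR gl_lfA 31671 12 (4 * 2 ^ 12) = true := by decide +kernel
theorem gl_lvlA_b5 : allR gl_lfA 31671 12 (5 * 2 ^ 12) = true := by decide +kernel
theorem gl_lvlA_b6 : allR gl_lfA 31671 12 (6 * 2 ^ 12) = true := by decide +kernel
theorem gl_lvlA_b7 : allR gl_lfA 31671 12 (7 * 2 ^ 12) = true := by decide +kernel
theorem gl_lvlA : ∀ p, p < 31671 → gl_lfA p = true := by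
  apply allR_blocks gl_lfA 31671 12 8 _ (by decide)
  intro k hk
  interval_cases k
  · exact gl_lvlA_b0
  · exact gl_lvlA_b1
  · exact gl_lvlA_b2
  · exact gl_lvlA_b3
  · exact gl_lvlA_b4
  · exact gl_lvlA_b5
  · exact gl_lvlA_b6
  · exact gl_lvlA_b7
theorem gl_fixA : fixOK t1689_pd gl_wsA [0] = true := by decide +kernel
theorem gl_cntA : cntR (fun p => Nat.ble 1 (fld 16 (gl_lab p) 0)) 31671 15 0 = 28160 := by decide +kernel
noncomputable def gl_lfB (p : ℕ) : Bool := lvlOK t1689_pd gl_lab 2 gl_wsB 52 p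
theorem gl_lvlB_b0 : allR gl_lfB 31671 12 (0 * 2 ^ 12) = true := by decide +kernel
theorem gl_lvlB_b1 : allR gl_lfB 31671 12 (1 * 2 ^ 12) = true := by decide +kernel
theorem gl_lvlB_b2 : allR gl_lfB 31671 12 (2 * 2 ^ 12) = true := by decide +kernel
theorem gl_lvlB_b3 : allR gl_lfB 31671 12 (3 * 2 ^ 12) = true := by decide +kernel
theorem gl_lvlB_b4 : allR gl_lfB 31671 12 (4 * 2 ^ 12) = true := by decide +kernel
theorem gl_lvlB_b5 : allR gl_lfB 31671 12 (5 * 2 ^ 12) = true := by decide +kernel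
theorem gl_lvlB_b6 : allR gl_lfB 31671 12 (6 * 2 ^ 12) = true := by decide +kernel
theorem gl_lvlB_b7 : allR gl_lfB 31671 12 (7 * 2 ^ 12) = true := by decide +kernel
theorem gl_lvlB : ∀ p, p < 31671 → gl_lfB p = true := by
  apply allR_blocks gl_lfB 31671 12 8 _ (by decide)
  intro k hk
  interval_cases k
  · exact gl_lvlB_b0
  · exact gl_lvlB_b1
  · exact gl_lvlB_b2
  · exact gl_lvlB_b3
  · exact gl_lvlB_b4
  · exact gl_lvlB_b5
  · exact gl_lvlB_b6
  · exact gl_lvlB_b7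
theorem gl_fixB : fixOK t1689_pd gl_wsB [0] = true := by decide +kernel
theorem gl_cntB : cntR (fun p => Nat.ble 1 (fld 16 (gl_lab p) 2)) 31671 15 0 = 3510 := by decide +kernel
noncomputable def gl_lf3 (p : ℕ) : Bool := lvlOK t1689_pd gl_lab 4 gl_ws3 2 p
theorem gl_lvl3_b0 : allR gl_lf3 31671 12 (0 * 2 ^ 12) = true := by decide +kernel
theorem gl_lvl3_b1 : allR gl_lf3 31671 12 (1 * 2 ^ 12) = true := by decide +kernel
theorem gl_lvl3_b2 : allR gl_lf3 31671 12 (2 * 2 ^ 12) = true := by decide +kernel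
theorem gl_lvl3_b3 : allR gl_lf3 31671 12 (3 * 2 ^ 12) = true := by decide +kernel
theorem gl_lvl3_b4 : allR gl_lf3 31671 12 (4 * 2 ^ 12) = true := by decide +kernel
theorem gl_lvl3_b5 : allR gl_lf3 31671 12 (5 * 2 ^ 12) = true := by decide +kernel
theorem gl_lvl3_b6 : allR gl_lf3 31671 12 (6 * 2 ^ 12) = true := by decide +kernel
theorem gl_lvl3_b7 : allR gl_lf3 31671 12 (7 * 2 ^ 12) = true := by decide +kernel
theorem gl_lvl3 : ∀ p, p < 31671 → gl_lf3 p = true := by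
  apply allR_blocks gl_lf3 31671 12 8 _ (by decide)
  intro k hk
  interval_cases k
  · exact gl_lvl3_b0
  · exact gl_lvl3_b1
  · exact gl_lvl3_b2
  · exact gl_lvl3_b3
  · exact gl_lvl3_b4
  · exact gl_lvl3_b5
  · exact gl_lvl3_b6
  · exact gl_lvl3_b7
theorem gl_fix3 : fixOK t1689_pd gl_ws3 [0, 1] = true := by decide +kernel
theorem gl_cnt3 : cntR (fun p => Nat.ble 1 (fld 16 (gl_lab p) 4)) 31671 15 0 = 3159 := by decide +kernel
noncomputable def gl_lf4 (p : ℕ) : Bool := lvlOK t1689_pd gl_lab 6 gl_ws4 2812 p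
theorem gl_lvl4_b0 : allR gl_lf4 31671 12 (0 * 2 ^ 12) = true := by decide +kernel
theorem gl_lvl4_b1 : allR gl_lf4 31671 12 (1 * 2 ^ 12) = true := by decide +kernel
theorem gl_lvl4_b2 : allR gl_lf4 31671 12 (2 * 2 ^ 12) = true := by decide +kernel
theorem gl_lvl4_b3 : allR gl_lf4 31671 12 (3 * 2 ^ 12) = true := by decide +kernel
theorem gl_lvl4_b4 : allR gl_lf4 31671 12 (4 * 2 ^ 12) = true := by decide +kernel
theorem gl_lvl4_b5 : allR gl_lf4 31671 12 (5 * 2 ^ 12) = true := by decide +kernel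
theorem gl_lvl4_b6 : allR gl_lf4 31671 12 (6 * 2 ^ 12) = true := by decide +kernel
theorem gl_lvl4_b7 : allR gl_lf4 31671 12 (7 * 2 ^ 12) = true := by decide +kernel
theorem gl_lvl4 : ∀ p, p < 31671 → gl_lf4 p = true := by
  apply allR_blocks gl_lf4 31671 12 8 _ (by decide)
  intro k hk
  interval_cases k
  · exact gl_lvl4_b0
  · exact gl_lvl4_b1
  · exact gl_lvl4_b2
  · exact gl_lvl4_b3
  · exact gl_lvl4_b4
  · exact gl_lvl4_b5
  · exact gl_lvl4_b6
  · exact gl_lvl4_b7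
theorem gl_fix4 : fixOK t1689_pd gl_ws4 [0, 1, 2] = true := by decide +kernel
theorem gl_cnt4 : cntR (fun p => Nat.ble 1 (fld 16 (gl_lab p) 6)) 31671 15 0 = 15120 := by decide +kernel
noncomputable def gl_lf5 (p : ℕ) : Bool := lvlOK t1689_pd gl_lab 8 gl_ws5 13401 p
theorem gl_lvl5_b0 : allR gl_lf5 31671 12 (0 * 2 ^ 12) = true := by decide +kernel
theorem gl_lvl5_b1 : allR gl_lf5 31671 12 (1 * 2 ^ 12) = true := by decide +kernel
theorem gl_lvl5_b2 : allR gl_lf5 31671 12 (2 * 2 ^ 12) = true := by decide +kernel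
theorem gl_lvl5_b3 : allR gl_lf5 31671 12 (3 * 2 ^ 12) = true := by decide +kernel
theorem gl_lvl5_b4 : allR gl_lf5 31671 12 (4 * 2 ^ 12) = true := by decide +kernel
theorem gl_lvl5_b5 : allR gl_lf5 31671 12 (5 * 2 ^ 12) = true := by decide +kernel
theorem gl_lvl5_b6 : allR gl_lf5 31671 12 (6 * 2 ^ 12) = true := by decide +kernel
theorem gl_lvl5_b7 : allR gl_lf5 31671 12 (7 * 2 ^ 12) = true := by decide +kernel
theorem gl_lvl5 : ∀ p, p < 31671 → gl_lf5 p = true := by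
  apply allR_blocks gl_lf5 31671 12 8 _ (by decide)
  intro k hk
  interval_cases k
  · exact gl_lvl5_b0
  · exact gl_lvl5_b1
  · exact gl_lvl5_b2
  · exact gl_lvl5_b3
  · exact gl_lvl5_b4
  · exact gl_lvl5_b5
  · exact gl_lvl5_b6
  · exact gl_lvl5_b7
theorem gl_fix5 : fixOK t1689_pd gl_ws5 [0, 1, 2, 2812] = true := by decide +kernel
theorem gl_cnt5 : cntR (fun p => Nat.ble 1 (fld 16 (gl_lab p) 8)) 31671 15 0 = 96 := by decide +kernel
theorem gl_all : allR (fun p => Nat.beq p 0 || (Nat.ble 1 (fld 16 (gl_lab p) 0) || Nat.ble 1 (fld 16 (gl_lab p) 2))) 31671 15 0 = true := by decide +kernel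
theorem gl_zeroA : fld 16 (gl_lab 0) 0 = 0 := by decide +kernel
theorem gl_zeroB : fld 16 (gl_lab 0) 2 = 0 := by decide +kernel

end Cfsg.Agent.H10.Fi23T
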