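import Cfsg.Agent.H10.Fi23T.LData

set_option autoImplicit false
set_option linter.all false

namespace Cfsg.Agent.H10.Fi23T

open Cfsg.Agent.H35 Cfsg.Spor Cfsg.Agent.H10

theorem gl_pow1_b44 : allR gl_pf1 31671 8 (44 * 2 ^ 8) = true := by decide +kernel
theorem gl_pow1_b45 : allR gl_pf1 31671 8 (45 * 2 ^ 8) = true := by decide +kernel
theorem gl_pow1_b46 : allR gl_pf1 31671 8 (46 * 2 ^ 8) = true := by decide +kernel
theorem gl_pow1_b47 : allR gl_pf1 31671 8 (47 * 2 ^ 8) = true := by decide +kernel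
theorem gl_pow1_b48 : allR gl_pf1 31671 8 (48 * 2 ^ 8) = true := by decide +kernel
theorem gl_pow1_b49 : allR gl_pf1 31671 8 (49 * 2 ^ 8) = true := by decide +kernel
theorem gl_pow1_b50 : allR gl_pf1 31671 8 (50 * 2 ^ 8) = true := by decide +kernel
theorem gl_pow1_b51 : allR gl_pf1 31671 8 (51 * 2 ^ 8) = true := by decide +kernel
theorem gl_pow1_b52 : allR gl_pf1 31671 8 (52 * 2 ^ 8) = true := by decide +kernel
theorem gl_pow1_b53 : allR gl_pf1 31671 8 (53 * 2 ^ 8) = true := by decide +kernel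
theorem gl_pow1_b54 : allR gl_pf1 31671 8 (54 * 2 ^ 8) = true := by decide +kernel
theorem gl_pow1_b55 : allR gl_pf1 31671 8 (55 * 2 ^ 8) = true := by decide +kernel
theorem gl_pow1_b56 : allR gl_pf1 31671 8 (56 * 2 ^ 8) = true := by decide +kernel
theorem gl_pow1_b57 : allR gl_pf1 31671 8 (57 * 2 ^ 8) = true := by decide +kernel
theorem gl_pow1_b58 : allR gl_pf1 31671 8 (58 * 2 ^ 8) = true := by decide +kernel
theorem gl_pow1_b59 : allR gl_pf1 31671 8 (59 * 2 ^ 8) = true := by decide +kernel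
theorem gl_pow1_b60 : allR gl_pf1 31671 8 (60 * 2 ^ 8) = true := by decide +kernel
theorem gl_pow1_b61 : allR gl_pf1 31671 8 (61 * 2 ^ 8) = true := by decide +kernel
theorem gl_pow1_b62 : allR gl_pf1 31671 8 (62 * 2 ^ 8) = true := by decide +kernel
theorem gl_pow1_b63 : allR gl_pf1 31671 8 (63 * 2 ^ 8) = true := by decide +kernel
theorem gl_pow1_b64 : allR gl_pf1 31671 8 (64 * 2 ^ 8) = true := by decide +kernel
theorem gl_pow1_b65 : allR gl_pf1 31671 8 (65 * 2 ^ 8) = true := by decide +kernel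
theorem gl_pow1_b66 : allR gl_pf1 31671 8 (66 * 2 ^ 8) = true := by decide +kernel
theorem gl_pow1_b67 : allR gl_pf1 31671 8 (67 * 2 ^ 8) = true := by decide +kernel
theorem gl_pow1_b68 : allR gl_pf1 31671 8 (68 * 2 ^ 8) = true := by decide +kernel
theorem gl_pow1_b69 : allR gl_pf1 31671 8 (69 * 2 ^ 8) = true := by decide +kernel
theorem gl_pow1_b70 : allR gl_pf1 31671 8 (70 * 2 ^ 8) = true := by decide +kernel
theorem gl_pow1_b71 : allR gl_pf1 31671 8 (71 * 2 ^ 8) = true := by decide +kernel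
theorem gl_pow1_b72 : allR gl_pf1 31671 8 (72 * 2 ^ 8) = true := by decide +kernel
theorem gl_pow1_b73 : allR gl_pf1 31671 8 (73 * 2 ^ 8) = true := by decide +kernel
theorem gl_pow1_b74 : allR gl_pf1 31671 8 (74 * 2 ^ 8) = true := by decide +kernel
theorem gl_pow1_b75 : allR gl_pf1 31671 8 (75 * 2 ^ 8) = true := by decide +kernel
theorem gl_pow1_b76 : allR gl_pf1 31671 8 (76 * 2 ^ 8) = true := by decide +kernel
theorem gl_pow1_b77 : allR gl_pf1 31671 8 (77 * 2 ^ 8) = true := by decide +kernel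
theorem gl_pow1_b78 : allR gl_pf1 31671 8 (78 * 2 ^ 8) = true := by decide +kernel
theorem gl_pow1_b79 : allR gl_pf1 31671 8 (79 * 2 ^ 8) = true := by decide +kernel
theorem gl_pow1_b80 : allR gl_pf1 31671 8 (80 * 2 ^ 8) = true := by decide +kernel
theorem gl_pow1_b81 : allR gl_pf1 31671 8 (81 * 2 ^ 8) = true := by decide +kernel
theorem gl_pow1_b82 : allR gl_pf1 31671 8 (82 * 2 ^ 8) = true := by decide +kernel
theorem gl_pow1_b83 : allR gl_pf1 31671 8 (83 * 2 ^ 8) = true := by decide +kernel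
theorem gl_pow1_b84 : allR gl_pf1 31671 8 (84 * 2 ^ 8) = true := by decide +kernel
theorem gl_pow1_b85 : allR gl_pf1 31671 8 (85 * 2 ^ 8) = true := by decide +kernel

end Cfsg.Agent.H10.Fi23T
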