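import Cfsg.Agent.H10.Fi23T.LData

set_option autoImplicit false
set_option linter.all false

namespace Cfsg.Agent.H10.Fi23T

open Cfsg.Agent.H35 Cfsg.Spor Cfsg.Agent.H10

theorem gl_pow1_b86 : allR gl_pf1 31671 8 (86 * 2 ^ 8) = true := by decide +kernel
theorem gl_pow1_b87 : allR gl_pf1 31671 8 (87 * 2 ^ 8) = true := by decide +kernel
theorem gl_pow1_b88 : allR gl_pf1 31671 8 (88 * 2 ^ 8) = true := by decide +kernel
theorem gl_pow1_b89 : allR gl_pf1 31671 8 (89 * 2 ^ 8) = true := by decide +kernel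
theorem gl_pow1_b90 : allR gl_pf1 31671 8 (90 * 2 ^ 8) = true := by decide +kernel
theorem gl_pow1_b91 : allR gl_pf1 31671 8 (91 * 2 ^ 8) = true := by decide +kernel
theorem gl_pow1_b92 : allR gl_pf1 31671 8 (92 * 2 ^ 8) = true := by decide +kernel
theorem gl_pow1_b93 : allR gl_pf1 31671 8 (93 * 2 ^ 8) = true := by decide +kernel
theorem gl_pow1_b94 : allR gl_pf1 31671 8 (94 * 2 ^ 8) = true := by decide +kernel
theorem gl_pow1_b95 : allR gl_pf1 31671 8 (95 * 2 ^ 8) = true := by decide +kernel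
theorem gl_pow1_b96 : allR gl_pf1 31671 8 (96 * 2 ^ 8) = true := by decide +kernel
theorem gl_pow1_b97 : allR gl_pf1 31671 8 (97 * 2 ^ 8) = true := by decide +kernel
theorem gl_pow1_b98 : allR gl_pf1 31671 8 (98 * 2 ^ 8) = true := by decide +kernel
theorem gl_pow1_b99 : allR gl_pf1 31671 8 (99 * 2 ^ 8) = true := by decide +kernel
theorem gl_pow1_b100 : allR gl_pf1 31671 8 (100 * 2 ^ 8) = true := by decide +kernel
theorem gl_pow1_b101 : allR gl_pf1 31671 8 (101 * 2 ^ 8) = true := by decide +kernel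
theorem gl_pow1_b102 : allR gl_pf1 31671 8 (102 * 2 ^ 8) = true := by decide +kernel
theorem gl_pow1_b103 : allR gl_pf1 31671 8 (103 * 2 ^ 8) = true := by decide +kernel
theorem gl_pow1_b104 : allR gl_pf1 31671 8 (104 * 2 ^ 8) = true := by decide +kernel
theorem gl_pow1_b105 : allR gl_pf1 31671 8 (105 * 2 ^ 8) = true := by decide +kernel
theorem gl_pow1_b106 : allR gl_pf1 31671 8 (106 * 2 ^ 8) = true := by decide +kernel
theorem gl_pow1_b107 : allR gl_pf1 31671 8 (107 * 2 ^ 8) = true := by decide +kernel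
theorem gl_pow1_b108 : allR gl_pf1 31671 8 (108 * 2 ^ 8) = true := by decide +kernel
theorem gl_pow1_b109 : allR gl_pf1 31671 8 (109 * 2 ^ 8) = true := by decide +kernel
theorem gl_pow1_b110 : allR gl_pf1 31671 8 (110 * 2 ^ 8) = true := by decide +kernel
theorem gl_pow1_b111 : allR gl_pf1 31671 8 (111 * 2 ^ 8) = true := by decide +kernel
theorem gl_pow1_b112 : allR gl_pf1 31671 8 (112 * 2 ^ 8) = true := by decide +kernel
theorem gl_pow1_b113 : allR gl_pf1 31671 8 (113 * 2 ^ 8) = true := by decide +kernel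
theorem gl_pow1_b114 : allR gl_pf1 31671 8 (114 * 2 ^ 8) = true := by decide +kernel
theorem gl_pow1_b115 : allR gl_pf1 31671 8 (115 * 2 ^ 8) = true := by decide +kernel
theorem gl_pow1_b116 : allR gl_pf1 31671 8 (116 * 2 ^ 8) = true := by decide +kernel
theorem gl_pow1_b117 : allR gl_pf1 31671 8 (117 * 2 ^ 8) = true := by decide +kernel
theorem gl_pow1_b118 : allR gl_pf1 31671 8 (118 * 2 ^ 8) = true := by decide +kernel
theorem gl_pow1_b119 : allR gl_pf1 31671 8 (119 * 2 ^ 8) = true := by decide +kernel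
theorem gl_pow1_b120 : allR gl_pf1 31671 8 (120 * 2 ^ 8) = true := by decide +kernel
theorem gl_pow1_b121 : allR gl_pf1 31671 8 (121 * 2 ^ 8) = true := by decide +kernel
theorem gl_pow1_b122 : allR gl_pf1 31671 8 (122 * 2 ^ 8) = true := by decide +kernel
theorem gl_pow1_b123 : allR gl_pf1 31671 8 (123 * 2 ^ 8) = true := by decide +kernel

end Cfsg.Agent.H10.Fi23T
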