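import Cfsg.Agent.H10.Fi23T.Upper
import Cfsg.Agent.H10.Fi23T.LChk
import Cfsg.Agent.H10.Fi23T.LPow

/-!
# The presented Fi23 is simple of order 4089470473293004800 (helper10; generated)
-/

set_option autoImplicit false

namespace Cfsg.Agent.H10.Fi23T

open Cfsg.Agent.H35 Cfsg.Spor Cfsg.Agent.H10

theorem dvd_idx : ∀ k ∈ Nat.divisors 31671, 3511 ≤ k → 17 ∣ k := by decide +kernel

theorem gen_split (u : List Fi23.Gen) (x : Fi23.Gen) :
    fi23_gen x = uw fi23_gen u * uw fi23_gen (u.reverse ++ [x]) := by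
  rw [uw_append, uw_reverse _ fi23_inv, uw_singleton, mul_inv_cancel_left]

theorem gen_edge (x y : Fi23.Gen) : (fi23_gen x * fi23_gen y) ^ coxLabel Fi23.edges x y = 1 :=
  fi23_sat.1 x y

theorem pw_last_eq : gl_pw1 = (gl_pw0).reverse ++ [.c] := by decide

/-- the order and the simplicity of the presented group -/
theorem main : Nat.card Fi23 = 4089470473293004800 ∧ IsSimpleGroup Fi23 := by
  have hN : 0 < t1689_pd.N := by decide
  obtain ⟨ρ, hw, hst, htr⟩ := tc_core top_hyp hN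
  have hfin : Finite Fi23 := top_bound.1
  let b1 : Fin t1689_pd.N := ⟨0, hN⟩
  let b2 : Fin t1689_pd.N := ⟨1, by decide⟩
  let b3 : Fin t1689_pd.N := ⟨2, by decide⟩
  let b4 : Fin t1689_pd.N := ⟨2812, by decide⟩
  let b5 : Fin t1689_pd.N := ⟨13401, by decide⟩
  let rB : Fin t1689_pd.N := ⟨52, by decide⟩
  let K2 : Subgroup Fi23 := ⊤ ⊓ stabOf ρ b1
  let K3 : Subgroup Fi23 := K2 ⊓ stabOf ρ b2
  let K4 : Subgroup Fi23 := K3 ⊓ stabOf ρ b3
  let K5 : Subgroup Fi23 := K4 ⊓ stabOf ρ b4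
  let K6 : Subgroup Fi23 := K5 ⊓ stabOf ρ b5
  have hstA : ∀ w ∈ gl_wsA, uw fi23_gen w ∈ stabOf ρ b1 := fun w hwm =>
    fixOK_mem fi23_gen ρ hw gl_wsA _ gl_fixA w hwm b1 (by show (0 : ℕ) ∈ _; decide)
  have hstB : ∀ w ∈ gl_wsB, uw fi23_gen w ∈ stabOf ρ b1 := fun w hwm =>
    fixOK_mem fi23_gen ρ hw gl_wsB _ gl_fixB w hwm b1 (by show (0 : ℕ) ∈ _; decide)
  let OA : Finset (Fin t1689_pd.N) :=
    Finset.univ.filter (fun p : Fin t1689_pd.N => Nat.ble 1 (fld 16 (gl_lab p.val) 0) = true)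
  let OB : Finset (Fin t1689_pd.N) :=
    Finset.univ.filter (fun p : Fin t1689_pd.N => Nat.ble 1 (fld 16 (gl_lab p.val) 2) = true)
  have hOA : ∀ x ∈ OA, ∃ g ∈ stabOf ρ b1, ρ g b2 = x := fun x hx => by
    rw [Finset.mem_filter, Nat.ble_eq] at hx
    exact lvl_orbit fi23_gen ρ hw (stabOf ρ b1) gl_lab 0 gl_wsA b2 hstA
      gl_lvlA _ x rfl hx.2
  have hOB : ∀ x ∈ OB, ∃ g ∈ stabOf ρ b1, ρ g rB = x := fun x hx => by
    rw [Finset.mem_filter, Nat.ble_eq] at hx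
    exact lvl_orbit fi23_gen ρ hw (stabOf ρ b1) gl_lab 2 gl_wsB rB hstB
      gl_lvlB _ x rfl hx.2
  have hcA : OA.card = 28160 := by
    rw [card_filter_fin (fun i => Nat.ble 1 (fld 16 (gl_lab i) 0)) t1689_pd.N 15 (by decide)]
    exact gl_cntA
  have hcB : OB.card = 3510 := by
    rw [card_filter_fin (fun i => Nat.ble 1 (fld 16 (gl_lab i) 2)) t1689_pd.N 15 (by decide)]
    exact gl_cntB
  have s1 : 31671 * Nat.card K2 ≤ Nat.card (⊤ : Subgroup Fi23) := by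
    have := level_step ρ ⊤ b1 Finset.univ (fun x _ => by
      obtain ⟨g, hg⟩ := htr x
      exact ⟨g, Subgroup.mem_top g, hg⟩)
    rw [Finset.card_univ, Fintype.card_fin] at this
    exact this
  have s2 : 28160 * Nat.card K3 ≤ Nat.card K2 := by
    have := level_step ρ K2 b2 OA (fun x hx => by
      obtain ⟨g, hg, e⟩ := hOA x hx
      exact ⟨g, ⟨Subgroup.mem_top g, hg⟩, e⟩)
    rw [hcA] at this
    exact this
  have hK3 : ∀ w ∈ gl_ws3, uw fi23_gen w ∈ K3 := fun w hwm =>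
    ⟨⟨Subgroup.mem_top _, fixOK_mem fi23_gen ρ hw gl_ws3 _ gl_fix3 w hwm b1 (by show (0 : ℕ) ∈ _; decide)⟩, fixOK_mem fi23_gen ρ hw gl_ws3 _ gl_fix3 w hwm b2 (by decide)⟩
  have s3 : 3159 * Nat.card K4 ≤ Nat.card K3 := by
    have := level_step ρ K3 b3
      (Finset.univ.filter (fun p : Fin t1689_pd.N => Nat.ble 1 (fld 16 (gl_lab p.val) 4) = true))
      (fun x hx => by
        rw [Finset.mem_filter, Nat.ble_eq] at hx
        exact lvl_orbit fi23_gen ρ hw K3 gl_lab 4 gl_ws3 b3 hK3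
          gl_lvl3 _ x rfl hx.2)
    rw [card_filter_fin (fun i => Nat.ble 1 (fld 16 (gl_lab i) 4)) t1689_pd.N 15 (by decide)] at this
    rw [show cntR (fun i => Nat.ble 1 (fld 16 (gl_lab i) 4)) t1689_pd.N 15 0 = 3159 from gl_cnt3]
      at this
    exact this
  have hK4 : ∀ w ∈ gl_ws4, uw fi23_gen w ∈ K4 := fun w hwm =>
    ⟨⟨⟨Subgroup.mem_top _, fixOK_mem fi23_gen ρ hw gl_ws4 _ gl_fix4 w hwm b1 (by show (0 : ℕ) ∈ _; decide)⟩, fixOK_mem fi23_gen ρ hw gl_ws4 _ gl_fix4 w hwm b2 (by decide)⟩, fixOK_mem fi23_gen ρ hw gl_ws4 _ gl_fix4 w hwm b3 (by decide)⟩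
  have s4 : 15120 * Nat.card K5 ≤ Nat.card K4 := by
    have := level_step ρ K4 b4
      (Finset.univ.filter (fun p : Fin t1689_pd.N => Nat.ble 1 (fld 16 (gl_lab p.val) 6) = true))
      (fun x hx => by
        rw [Finset.mem_filter, Nat.ble_eq] at hx
        exact lvl_orbit fi23_gen ρ hw K4 gl_lab 6 gl_ws4 b4 hK4
          gl_lvl4 _ x rfl hx.2)
    rw [card_filter_fin (fun i => Nat.ble 1 (fld 16 (gl_lab i) 6)) t1689_pd.N 15 (by decide)] at this
    rw [show cntR (fun i => Nat.ble 1 (fld 16 (gl_lab i) 6)) t1689_pd.N 15 0 = 15120 from gl_cnt4]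
      at this
    exact this
  have hK5 : ∀ w ∈ gl_ws5, uw fi23_gen w ∈ K5 := fun w hwm =>
    ⟨⟨⟨⟨Subgroup.mem_top _, fixOK_mem fi23_gen ρ hw gl_ws5 _ gl_fix5 w hwm b1 (by show (0 : ℕ) ∈ _; decide)⟩, fixOK_mem fi23_gen ρ hw gl_ws5 _ gl_fix5 w hwm b2 (by decide)⟩, fixOK_mem fi23_gen ρ hw gl_ws5 _ gl_fix5 w hwm b3 (by decide)⟩, fixOK_mem fi23_gen ρ hw gl_ws5 _ gl_fix5 w hwm b4 (by decide)⟩
  have s5 : 96 * Nat.card K6 ≤ Nat.card K5 := by
    have := level_step ρ K5 b5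
      (Finset.univ.filter (fun p : Fin t1689_pd.N => Nat.ble 1 (fld 16 (gl_lab p.val) 8) = true))
      (fun x hx => by
        rw [Finset.mem_filter, Nat.ble_eq] at hx
        exact lvl_orbit fi23_gen ρ hw K5 gl_lab 8 gl_ws5 b5 hK5
          gl_lvl5 _ x rfl hx.2)
    rw [card_filter_fin (fun i => Nat.ble 1 (fld 16 (gl_lab i) 8)) t1689_pd.N 15 (by decide)] at this
    rw [show cntR (fun i => Nat.ble 1 (fld 16 (gl_lab i) 8)) t1689_pd.N 15 0 = 96 from gl_cnt5]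
      at this
    exact this
  have hKpos : 0 < Nat.card K6 := Nat.card_pos
  have htop : Nat.card (⊤ : Subgroup Fi23) = Nat.card Fi23 := Subgroup.card_top
  have hub := top_bound.2
  have hcard : Nat.card Fi23 = 4089470473293004800 := by omega
  have hKone : Nat.card K6 = 1 := by omega
  have hinj : ∀ g : Fi23, ρ g = 1 → g = 1 := by
    intro g hg
    have hmem : g ∈ K6 := by
      have hfix : ∀ b : Fin t1689_pd.N, g ∈ stabOf ρ b := fun b => by
        rw [mem_stabOf, hg]; rfl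
      exact ⟨⟨⟨⟨⟨Subgroup.mem_top g, hfix b1⟩, hfix b2⟩, hfix b3⟩, hfix b4⟩, hfix b5⟩
    have hbot : K6 = ⊥ := Subgroup.card_eq_one.mp hKone
    rw [hbot, Subgroup.mem_bot] at hmem
    exact hmem
  refine ⟨hcard, ?_⟩
  have hp0 : uw fi23_gen gl_pw0 ^ 17 = 1 := hinj _ (by
    rw [map_pow]
    exact powCol_sound fi23_gen ρ hw gl_col 0 17 gl_pw0 (fun p hp => gl_pow0 p hp))
  have hp1 : uw fi23_gen gl_pw1 ^ 17 = 1 := hinj _ (by
    rw [map_pow]
    exact powCol_sound fi23_gen ρ hw gl_col 1 17 gl_pw1 (fun p hp => gl_pow1 p hp))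
  have hnp : ¬ 17 ^ 2 ∣ Nat.card Fi23 := by rw [hcard]; norm_num
  have : Fact (Nat.Prime 17) := ⟨by norm_num⟩
  have hnt : Nontrivial Fi23 := by
    rw [← Finite.one_lt_card_iff_nontrivial, hcard]; norm_num
  refine @IsSimpleGroup.mk _ _ hnt ?_
  intro N hNn
  have hm : ∀ ω : Fin t1689_pd.N, ω ≠ b1 → ∃ O : Finset (Fin t1689_pd.N), 3510 ≤ O.card ∧
      b1 ∉ O ∧ ∀ x ∈ O, ∃ h ∈ stabOf ρ b1, ρ h ω = x := by
    intro ω hω
    have hc := allR_all _ _ 15 (by decide) gl_all ω.val ω.isLt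
    rw [Bool.or_eq_true, Bool.or_eq_true, Nat.beq_eq] at hc
    rcases hc with hc | hc | hc
    · exact absurd (Fin.ext hc) hω
    · refine ⟨OA, by rw [hcA]; all_goals norm_num, ?_, orbit_family ρ _ OA b2 hOA ω ?_⟩
      · intro h0
        rw [Finset.mem_filter, Nat.ble_eq] at h0
        have h00 : fld 16 (gl_lab (b1 : Fin t1689_pd.N).val) 0 = 0 := gl_zeroA
        omega
      · rw [Finset.mem_filter]; exact ⟨Finset.mem_univ _, hc⟩
    · refine ⟨OB, by rw [hcB]; all_goals norm_num, ?_, orbit_family ρ _ OB rB hOB ω ?_⟩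
      · intro h0
        rw [Finset.mem_filter, Nat.ble_eq] at h0
        have h00 : fld 16 (gl_lab (b1 : Fin t1689_pd.N).val) 2 = 0 := gl_zeroB
        omega
      · rw [Finset.mem_filter]; exact ⟨Finset.mem_univ _, hc⟩
  rcases normal_le_or_relIndex ρ b1 htr 3510 hm N with hle | ⟨hk1, hk2, hk3⟩
  · left
    exact normal_le_stab_eq_bot ρ hinj b1 htr N hle
  · right
    have hk2' : (stabOf ρ b1).relIndex N ∣ 31671 := hk2
    have hpN : 17 ∣ Nat.card N :=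
      (dvd_idx _ (Nat.mem_divisors.mpr ⟨hk2', by norm_num⟩) hk1).trans hk3
    have m0 : uw fi23_gen gl_pw0 ∈ N := mem_normal_of_pow_prime 17 hnp N hpN _ hp0
    have m1 : uw fi23_gen gl_pw1 ∈ N := mem_normal_of_pow_prime 17 hnp N hpN _ hp1
    have hx0 : fi23_gen .c ∈ N := by
      rw [gen_split (gl_pw0) .c, ← pw_last_eq]
      exact N.mul_mem m0 m1
    have hx_b : fi23_gen .b ∈ N :=
      mem_normal_of_odd_edge N _ _ 1 (fi23_inv .b) (gen_edge .c .b) hx0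
    have hx_a : fi23_gen .a ∈ N :=
      mem_normal_of_odd_edge N _ _ 1 (fi23_inv .a) (gen_edge .b .a) hx_b
    have hx_d : fi23_gen .d ∈ N :=
      mem_normal_of_odd_edge N _ _ 1 (fi23_inv .d) (gen_edge .c .d) hx0
    have hx_e : fi23_gen .e ∈ N :=
      mem_normal_of_odd_edge N _ _ 1 (fi23_inv .e) (gen_edge .d .e) hx_d
    have hx_f : fi23_gen .f ∈ N :=
      mem_normal_of_odd_edge N _ _ 1 (fi23_inv .f) (gen_edge .e .f) hx_e
    have hx_g : fi23_gen .g ∈ N :=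
      mem_normal_of_odd_edge N _ _ 1 (fi23_inv .g) (gen_edge .f .g) hx_f
    have hx_j : fi23_gen .j ∈ N :=
      mem_normal_of_odd_edge N _ _ 1 (fi23_inv .j) (gen_edge .g .j) hx_g
    have hx_h : fi23_gen .h ∈ N :=
      mem_normal_of_odd_edge N _ _ 1 (fi23_inv .h) (gen_edge .d .h) hx_d
    have hx_i : fi23_gen .i ∈ N :=
      mem_normal_of_odd_edge N _ _ 1 (fi23_inv .i) (gen_edge .h .i) hx_h
    rw [eq_top_iff, ← fi23_closure, Subgroup.closure_le]
    rintro _ ⟨x, rfl⟩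
    cases x <;> assumption

end Cfsg.Agent.H10.Fi23T
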