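import Cfsg.Agent.H10.Fi23T.TData

set_option autoImplicit false
set_option linter.all false

namespace Cfsg.Agent.H10.Fi23T

open Cfsg.Agent.H35 Cfsg.Spor Cfsg.Agent.H10

theorem gt_pow1_b0 : allR gt_pf1 31671 8 (0 * 2 ^ 8) = true := by decide +kernel
theorem gt_pow1_b1 : allR gt_pf1 31671 8 (1 * 2 ^ 8) = true := by decide +kernel
theorem gt_pow1_b2 : allR gt_pf1 31671 8 (2 * 2 ^ 8) = true := by decide +kernel
theorem gt_pow1_b3 : allR gt_pf1 31671 8 (3 * 2 ^ 8) = true := by decide +kernel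
theorem gt_pow1_b4 : allR gt_pf1 31671 8 (4 * 2 ^ 8) = true := by decide +kernel
theorem gt_pow1_b5 : allR gt_pf1 31671 8 (5 * 2 ^ 8) = true := by decide +kernel
theorem gt_pow1_b6 : allR gt_pf1 31671 8 (6 * 2 ^ 8) = true := by decide +kernel
theorem gt_pow1_b7 : allR gt_pf1 31671 8 (7 * 2 ^ 8) = true := by decide +kernel
theorem gt_pow1_b8 : allR gt_pf1 31671 8 (8 * 2 ^ 8) = true := by decide +kernel
theorem gt_pow1_b9 : allR gt_pf1 31671 8 (9 * 2 ^ 8) = true := by decide +kernel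
theorem gt_pow1_b10 : allR gt_pf1 31671 8 (10 * 2 ^ 8) = true := by decide +kernel
theorem gt_pow1_b11 : allR gt_pf1 31671 8 (11 * 2 ^ 8) = true := by decide +kernel
theorem gt_pow1_b12 : allR gt_pf1 31671 8 (12 * 2 ^ 8) = true := by decide +kernel
theorem gt_pow1_b13 : allR gt_pf1 31671 8 (13 * 2 ^ 8) = true := by decide +kernel
theorem gt_pow1_b14 : allR gt_pf1 31671 8 (14 * 2 ^ 8) = true := by decide +kernel
theorem gt_pow1_b15 : allR gt_pf1 31671 8 (15 * 2 ^ 8) = true := by decide +kernel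
theorem gt_pow1_b16 : allR gt_pf1 31671 8 (16 * 2 ^ 8) = true := by decide +kernel
theorem gt_pow1_b17 : allR gt_pf1 31671 8 (17 * 2 ^ 8) = true := by decide +kernel
theorem gt_pow1_b18 : allR gt_pf1 31671 8 (18 * 2 ^ 8) = true := by decide +kernel
theorem gt_pow1_b19 : allR gt_pf1 31671 8 (19 * 2 ^ 8) = true := by decide +kernel
theorem gt_pow1_b20 : allR gt_pf1 31671 8 (20 * 2 ^ 8) = true := by decide +kernel
theorem gt_pow1_b21 : allR gt_pf1 31671 8 (21 * 2 ^ 8) = true := by decide +kernel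
theorem gt_pow1_b22 : allR gt_pf1 31671 8 (22 * 2 ^ 8) = true := by decide +kernel
theorem gt_pow1_b23 : allR gt_pf1 31671 8 (23 * 2 ^ 8) = true := by decide +kernel
theorem gt_pow1_b24 : allR gt_pf1 31671 8 (24 * 2 ^ 8) = true := by decide +kernel
theorem gt_pow1_b25 : allR gt_pf1 31671 8 (25 * 2 ^ 8) = true := by decide +kernel
theorem gt_pow1_b26 : allR gt_pf1 31671 8 (26 * 2 ^ 8) = true := by decide +kernel
theorem gt_pow1_b27 : allR gt_pf1 31671 8 (27 * 2 ^ 8) = true := by decide +kernel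
theorem gt_pow1_b28 : allR gt_pf1 31671 8 (28 * 2 ^ 8) = true := by decide +kernel
theorem gt_pow1_b29 : allR gt_pf1 31671 8 (29 * 2 ^ 8) = true := by decide +kernel
theorem gt_pow1_b30 : allR gt_pf1 31671 8 (30 * 2 ^ 8) = true := by decide +kernel
theorem gt_pow1_b31 : allR gt_pf1 31671 8 (31 * 2 ^ 8) = true := by decide +kernel
theorem gt_pow1_b32 : allR gt_pf1 31671 8 (32 * 2 ^ 8) = true := by decide +kernel
theorem gt_pow1_b33 : allR gt_pf1 31671 8 (33 * 2 ^ 8) = true := by decide +kernel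
theorem gt_pow1_b34 : allR gt_pf1 31671 8 (34 * 2 ^ 8) = true := by decide +kernel
theorem gt_pow1_b35 : allR gt_pf1 31671 8 (35 * 2 ^ 8) = true := by decide +kernel
theorem gt_pow1_b36 : allR gt_pf1 31671 8 (36 * 2 ^ 8) = true := by decide +kernel
theorem gt_pow1_b37 : allR gt_pf1 31671 8 (37 * 2 ^ 8) = true := by decide +kernel
theorem gt_pow1_b38 : allR gt_pf1 31671 8 (38 * 2 ^ 8) = true := by decide +kernel
theorem gt_pow1_b39 : allR gt_pf1 31671 8 (39 * 2 ^ 8) = true := by decide +kernel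
theorem gt_pow1_b40 : allR gt_pf1 31671 8 (40 * 2 ^ 8) = true := by decide +kernel
theorem gt_pow1_b41 : allR gt_pf1 31671 8 (41 * 2 ^ 8) = true := by decide +kernel
theorem gt_pow1_b42 : allR gt_pf1 31671 8 (42 * 2 ^ 8) = true := by decide +kernel
theorem gt_pow1_b43 : allR gt_pf1 31671 8 (43 * 2 ^ 8) = true := by decide +kernel
theorem gt_pow1_b44 : allR gt_pf1 31671 8 (44 * 2 ^ 8) = true := by decide +kernel
theorem gt_pow1_b45 : allR gt_pf1 31671 8 (45 * 2 ^ 8) = true := by decide +kernel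
theorem gt_pow1_b46 : allR gt_pf1 31671 8 (46 * 2 ^ 8) = true := by decide +kernel
theorem gt_pow1_b47 : allR gt_pf1 31671 8 (47 * 2 ^ 8) = true := by decide +kernel
theorem gt_pow1_b48 : allR gt_pf1 31671 8 (48 * 2 ^ 8) = true := by decide +kernel
theorem gt_pow1_b49 : allR gt_pf1 31671 8 (49 * 2 ^ 8) = true := by decide +kernel
theorem gt_pow1_b50 : allR gt_pf1 31671 8 (50 * 2 ^ 8) = true := by decide +kernel
theorem gt_pow1_b51 : allR gt_pf1 31671 8 (51 * 2 ^ 8) = true := by decide +kernel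
theorem gt_pow1_b52 : allR gt_pf1 31671 8 (52 * 2 ^ 8) = true := by decide +kernel
theorem gt_pow1_b53 : allR gt_pf1 31671 8 (53 * 2 ^ 8) = true := by decide +kernel
theorem gt_pow1_b54 : allR gt_pf1 31671 8 (54 * 2 ^ 8) = true := by decide +kernel
theorem gt_pow1_b55 : allR gt_pf1 31671 8 (55 * 2 ^ 8) = true := by decide +kernel
theorem gt_pow1_b56 : allR gt_pf1 31671 8 (56 * 2 ^ 8) = true := by decide +kernel
theorem gt_pow1_b57 : allR gt_pf1 31671 8 (57 * 2 ^ 8) = true := by decide +kernel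
theorem gt_pow1_b58 : allR gt_pf1 31671 8 (58 * 2 ^ 8) = true := by decide +kernel
theorem gt_pow1_b59 : allR gt_pf1 31671 8 (59 * 2 ^ 8) = true := by decide +kernel
theorem gt_pow1_b60 : allR gt_pf1 31671 8 (60 * 2 ^ 8) = true := by decide +kernel
theorem gt_pow1_b61 : allR gt_pf1 31671 8 (61 * 2 ^ 8) = true := by decide +kernel

end Cfsg.Agent.H10.Fi23T
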