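import Cfsg.Agent.H10.Fi23T.TData

set_option autoImplicit false
set_option linter.all false

namespace Cfsg.Agent.H10.Fi23T

open Cfsg.Agent.H35 Cfsg.Spor Cfsg.Agent.H10

theorem gt_pow2_b62 : allR gt_pf2 31671 8 (62 * 2 ^ 8) = true := by decide +kernel
theorem gt_pow2_b63 : allR gt_pf2 31671 8 (63 * 2 ^ 8) = true := by decide +kernel
theorem gt_pow2_b64 : allR gt_pf2 31671 8 (64 * 2 ^ 8) = true := by decide +kernel
theorem gt_pow2_b65 : allR gt_pf2 31671 8 (65 * 2 ^ 8) = true := by decide +kernel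
theorem gt_pow2_b66 : allR gt_pf2 31671 8 (66 * 2 ^ 8) = true := by decide +kernel
theorem gt_pow2_b67 : allR gt_pf2 31671 8 (67 * 2 ^ 8) = true := by decide +kernel
theorem gt_pow2_b68 : allR gt_pf2 31671 8 (68 * 2 ^ 8) = true := by decide +kernel
theorem gt_pow2_b69 : allR gt_pf2 31671 8 (69 * 2 ^ 8) = true := by decide +kernel
theorem gt_pow2_b70 : allR gt_pf2 31671 8 (70 * 2 ^ 8) = true := by decide +kernel
theorem gt_pow2_b71 : allR gt_pf2 31671 8 (71 * 2 ^ 8) = true := by decide +kernel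
theorem gt_pow2_b72 : allR gt_pf2 31671 8 (72 * 2 ^ 8) = true := by decide +kernel
theorem gt_pow2_b73 : allR gt_pf2 31671 8 (73 * 2 ^ 8) = true := by decide +kernel
theorem gt_pow2_b74 : allR gt_pf2 31671 8 (74 * 2 ^ 8) = true := by decide +kernel
theorem gt_pow2_b75 : allR gt_pf2 31671 8 (75 * 2 ^ 8) = true := by decide +kernel
theorem gt_pow2_b76 : allR gt_pf2 31671 8 (76 * 2 ^ 8) = true := by decide +kernel
theorem gt_pow2_b77 : allR gt_pf2 31671 8 (77 * 2 ^ 8) = true := by decide +kernel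
theorem gt_pow2_b78 : allR gt_pf2 31671 8 (78 * 2 ^ 8) = true := by decide +kernel
theorem gt_pow2_b79 : allR gt_pf2 31671 8 (79 * 2 ^ 8) = true := by decide +kernel
theorem gt_pow2_b80 : allR gt_pf2 31671 8 (80 * 2 ^ 8) = true := by decide +kernel
theorem gt_pow2_b81 : allR gt_pf2 31671 8 (81 * 2 ^ 8) = true := by decide +kernel
theorem gt_pow2_b82 : allR gt_pf2 31671 8 (82 * 2 ^ 8) = true := by decide +kernel
theorem gt_pow2_b83 : allR gt_pf2 31671 8 (83 * 2 ^ 8) = true := by decide +kernel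
theorem gt_pow2_b84 : allR gt_pf2 31671 8 (84 * 2 ^ 8) = true := by decide +kernel
theorem gt_pow2_b85 : allR gt_pf2 31671 8 (85 * 2 ^ 8) = true := by decide +kernel
theorem gt_pow2_b86 : allR gt_pf2 31671 8 (86 * 2 ^ 8) = true := by decide +kernel
theorem gt_pow2_b87 : allR gt_pf2 31671 8 (87 * 2 ^ 8) = true := by decide +kernel
theorem gt_pow2_b88 : allR gt_pf2 31671 8 (88 * 2 ^ 8) = true := by decide +kernel
theorem gt_pow2_b89 : allR gt_pf2 31671 8 (89 * 2 ^ 8) = true := by decide +kernel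
theorem gt_pow2_b90 : allR gt_pf2 31671 8 (90 * 2 ^ 8) = true := by decide +kernel
theorem gt_pow2_b91 : allR gt_pf2 31671 8 (91 * 2 ^ 8) = true := by decide +kernel
theorem gt_pow2_b92 : allR gt_pf2 31671 8 (92 * 2 ^ 8) = true := by decide +kernel
theorem gt_pow2_b93 : allR gt_pf2 31671 8 (93 * 2 ^ 8) = true := by decide +kernel
theorem gt_pow2_b94 : allR gt_pf2 31671 8 (94 * 2 ^ 8) = true := by decide +kernel
theorem gt_pow2_b95 : allR gt_pf2 31671 8 (95 * 2 ^ 8) = true := by decide +kernel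
theorem gt_pow2_b96 : allR gt_pf2 31671 8 (96 * 2 ^ 8) = true := by decide +kernel
theorem gt_pow2_b97 : allR gt_pf2 31671 8 (97 * 2 ^ 8) = true := by decide +kernel
theorem gt_pow2_b98 : allR gt_pf2 31671 8 (98 * 2 ^ 8) = true := by decide +kernel
theorem gt_pow2_b99 : allR gt_pf2 31671 8 (99 * 2 ^ 8) = true := by decide +kernel
theorem gt_pow2_b100 : allR gt_pf2 31671 8 (100 * 2 ^ 8) = true := by decide +kernel
theorem gt_pow2_b101 : allR gt_pf2 31671 8 (101 * 2 ^ 8) = true := by decide +kernel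
theorem gt_pow2_b102 : allR gt_pf2 31671 8 (102 * 2 ^ 8) = true := by decide +kernel
theorem gt_pow2_b103 : allR gt_pf2 31671 8 (103 * 2 ^ 8) = true := by decide +kernel
theorem gt_pow2_b104 : allR gt_pf2 31671 8 (104 * 2 ^ 8) = true := by decide +kernel
theorem gt_pow2_b105 : allR gt_pf2 31671 8 (105 * 2 ^ 8) = true := by decide +kernel
theorem gt_pow2_b106 : allR gt_pf2 31671 8 (106 * 2 ^ 8) = true := by decide +kernel
theorem gt_pow2_b107 : allR gt_pf2 31671 8 (107 * 2 ^ 8) = true := by decide +kernel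
theorem gt_pow2_b108 : allR gt_pf2 31671 8 (108 * 2 ^ 8) = true := by decide +kernel
theorem gt_pow2_b109 : allR gt_pf2 31671 8 (109 * 2 ^ 8) = true := by decide +kernel
theorem gt_pow2_b110 : allR gt_pf2 31671 8 (110 * 2 ^ 8) = true := by decide +kernel
theorem gt_pow2_b111 : allR gt_pf2 31671 8 (111 * 2 ^ 8) = true := by decide +kernel
theorem gt_pow2_b112 : allR gt_pf2 31671 8 (112 * 2 ^ 8) = true := by decide +kernel
theorem gt_pow2_b113 : allR gt_pf2 31671 8 (113 * 2 ^ 8) = true := by decide +kernel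
theorem gt_pow2_b114 : allR gt_pf2 31671 8 (114 * 2 ^ 8) = true := by decide +kernel
theorem gt_pow2_b115 : allR gt_pf2 31671 8 (115 * 2 ^ 8) = true := by decide +kernel
theorem gt_pow2_b116 : allR gt_pf2 31671 8 (116 * 2 ^ 8) = true := by decide +kernel
theorem gt_pow2_b117 : allR gt_pf2 31671 8 (117 * 2 ^ 8) = true := by decide +kernel
theorem gt_pow2_b118 : allR gt_pf2 31671 8 (118 * 2 ^ 8) = true := by decide +kernel
theorem gt_pow2_b119 : allR gt_pf2 31671 8 (119 * 2 ^ 8) = true := by decide +kernel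
theorem gt_pow2_b120 : allR gt_pf2 31671 8 (120 * 2 ^ 8) = true := by decide +kernel
theorem gt_pow2_b121 : allR gt_pf2 31671 8 (121 * 2 ^ 8) = true := by decide +kernel
theorem gt_pow2_b122 : allR gt_pf2 31671 8 (122 * 2 ^ 8) = true := by decide +kernel
theorem gt_pow2_b123 : allR gt_pf2 31671 8 (123 * 2 ^ 8) = true := by decide +kernel

end Cfsg.Agent.H10.Fi23T
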