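import Cfsg.Agent.H10.Fi23T.TPow0
import Cfsg.Agent.H10.Fi23T.TPow1
import Cfsg.Agent.H10.Fi23T.TPow2
import Cfsg.Agent.H10.Fi23T.TPow3
import Cfsg.Agent.H10.Fi23T.TPow4
import Cfsg.Agent.H10.Fi23T.TPow5

set_option autoImplicit false
set_option linter.all false

namespace Cfsg.Agent.H10.Fi23T

open Cfsg.Agent.H35 Cfsg.Spor Cfsg.Agent.H10

theorem gt_pow0 : ∀ p, p < 31671 → gt_pf0 p = true := by
  apply allR_blocks gt_pf0 31671 8 124 _ (by decide)
  intro k hk
  interval_cases k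
  · exact gt_pow0_b0
  · exact gt_pow0_b1
  · exact gt_pow0_b2
  · exact gt_pow0_b3
  · exact gt_pow0_b4
  · exact gt_pow0_b5
  · exact gt_pow0_b6
  · exact gt_pow0_b7
  · exact gt_pow0_b8
  · exact gt_pow0_b9
  · exact gt_pow0_b10
  · exact gt_pow0_b11
  · exact gt_pow0_b12
  · exact gt_pow0_b13
  · exact gt_pow0_b14
  · exact gt_pow0_b15
  · exact gt_pow0_b16
  · exact gt_pow0_b17
  · exact gt_pow0_b18
  · exact gt_pow0_b19
  · exact gt_pow0_b20
  · exact gt_pow0_b21
  · exact gt_pow0_b22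
  · exact gt_pow0_b23
  · exact gt_pow0_b24
  · exact gt_pow0_b25
  · exact gt_pow0_b26
  · exact gt_pow0_b27
  · exact gt_pow0_b28
  · exact gt_pow0_b29
  · exact gt_pow0_b30
  · exact gt_pow0_b31
  · exact gt_pow0_b32
  · exact gt_pow0_b33
  · exact gt_pow0_b34
  · exact gt_pow0_b35
  · exact gt_pow0_b36
  · exact gt_pow0_b37
  · exact gt_pow0_b38
  · exact gt_pow0_b39
  · exact gt_pow0_b40
  · exact gt_pow0_b41
  · exact gt_pow0_b42
  · exact gt_pow0_b43
  · exact gt_pow0_b44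
  · exact gt_pow0_b45
  · exact gt_pow0_b46
  · exact gt_pow0_b47
  · exact gt_pow0_b48
  · exact gt_pow0_b49
  · exact gt_pow0_b50
  · exact gt_pow0_b51
  · exact gt_pow0_b52
  · exact gt_pow0_b53
  · exact gt_pow0_b54
  · exact gt_pow0_b55
  · exact gt_pow0_b56
  · exact gt_pow0_b57
  · exact gt_pow0_b58
  · exact gt_pow0_b59
  · exact gt_pow0_b60
  · exact gt_pow0_b61
  · exact gt_pow0_b62
  · exact gt_pow0_b63
  · exact gt_pow0_b64
  · exact gt_pow0_b65
  · exact gt_pow0_b66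
  · exact gt_pow0_b67
  · exact gt_pow0_b68
  · exact gt_pow0_b69
  · exact gt_pow0_b70
  · exact gt_pow0_b71
  · exact gt_pow0_b72
  · exact gt_pow0_b73
  · exact gt_pow0_b74
  · exact gt_pow0_b75
  · exact gt_pow0_b76
  · exact gt_pow0_b77
  · exact gt_pow0_b78
  · exact gt_pow0_b79
  · exact gt_pow0_b80
  · exact gt_pow0_b81
  · exact gt_pow0_b82
  · exact gt_pow0_b83
  · exact gt_pow0_b84
  · exact gt_pow0_b85
  · exact gt_pow0_b86
  · exact gt_pow0_b87
  · exact gt_pow0_b88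
  · exact gt_pow0_b89
  · exact gt_pow0_b90
  · exact gt_pow0_b91
  · exact gt_pow0_b92
  · exact gt_pow0_b93
  · exact gt_pow0_b94
  · exact gt_pow0_b95
  · exact gt_pow0_b96
  · exact gt_pow0_b97
  · exact gt_pow0_b98
  · exact gt_pow0_b99
  · exact gt_pow0_b100
  · exact gt_pow0_b101
  · exact gt_pow0_b102
  · exact gt_pow0_b103
  · exact gt_pow0_b104
  · exact gt_pow0_b105
  · exact gt_pow0_b106
  · exact gt_pow0_b107
  · exact gt_pow0_b108
  · exact gt_pow0_b109
  · exact gt_pow0_b110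
  · exact gt_pow0_b111
  · exact gt_pow0_b112
  · exact gt_pow0_b113
  · exact gt_pow0_b114
  · exact gt_pow0_b115
  · exact gt_pow0_b116
  · exact gt_pow0_b117
  · exact gt_pow0_b118
  · exact gt_pow0_b119
  · exact gt_pow0_b120
  · exact gt_pow0_b121
  · exact gt_pow0_b122
  · exact gt_pow0_b123

theorem gt_pow1 : ∀ p, p < 31671 → gt_pf1 p = true := by
  apply allR_blocks gt_pf1 31671 8 124 _ (by decide)
  intro k hk
  interval_cases k
  · exact gt_pow1_b0
  · exact gt_pow1_b1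
  · exact gt_pow1_b2
  · exact gt_pow1_b3
  · exact gt_pow1_b4
  · exact gt_pow1_b5
  · exact gt_pow1_b6
  · exact gt_pow1_b7
  · exact gt_pow1_b8
  · exact gt_pow1_b9
  · exact gt_pow1_b10
  · exact gt_pow1_b11
  · exact gt_pow1_b12
  · exact gt_pow1_b13
  · exact gt_pow1_b14
  · exact gt_pow1_b15
  · exact gt_pow1_b16
  · exact gt_pow1_b17
  · exact gt_pow1_b18
  · exact gt_pow1_b19
  · exact gt_pow1_b20
  · exact gt_pow1_b21
  · exact gt_pow1_b22
  · exact gt_pow1_b23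
  · exact gt_pow1_b24
  · exact gt_pow1_b25
  · exact gt_pow1_b26
  · exact gt_pow1_b27
  · exact gt_pow1_b28
  · exact gt_pow1_b29
  · exact gt_pow1_b30
  · exact gt_pow1_b31
  · exact gt_pow1_b32
  · exact gt_pow1_b33
  · exact gt_pow1_b34
  · exact gt_pow1_b35
  · exact gt_pow1_b36
  · exact gt_pow1_b37
  · exact gt_pow1_b38
  · exact gt_pow1_b39
  · exact gt_pow1_b40
  · exact gt_pow1_b41
  · exact gt_pow1_b42
  · exact gt_pow1_b43
  · exact gt_pow1_b44
  · exact gt_pow1_b45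
  · exact gt_pow1_b46
  · exact gt_pow1_b47
  · exact gt_pow1_b48
  · exact gt_pow1_b49
  · exact gt_pow1_b50
  · exact gt_pow1_b51
  · exact gt_pow1_b52
  · exact gt_pow1_b53
  · exact gt_pow1_b54
  · exact gt_pow1_b55
  · exact gt_pow1_b56
  · exact gt_pow1_b57
  · exact gt_pow1_b58
  · exact gt_pow1_b59
  · exact gt_pow1_b60
  · exact gt_pow1_b61
  · exact gt_pow1_b62
  · exact gt_pow1_b63
  · exact gt_pow1_b64
  · exact gt_pow1_b65
  · exact gt_pow1_b66
  · exact gt_pow1_b67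
  · exact gt_pow1_b68
  · exact gt_pow1_b69
  · exact gt_pow1_b70
  · exact gt_pow1_b71
  · exact gt_pow1_b72
  · exact gt_pow1_b73
  · exact gt_pow1_b74
  · exact gt_pow1_b75
  · exact gt_pow1_b76
  · exact gt_pow1_b77
  · exact gt_pow1_b78
  · exact gt_pow1_b79
  · exact gt_pow1_b80
  · exact gt_pow1_b81
  · exact gt_pow1_b82
  · exact gt_pow1_b83
  · exact gt_pow1_b84
  · exact gt_pow1_b85
  · exact gt_pow1_b86
  · exact gt_pow1_b87
  · exact gt_pow1_b88
  · exact gt_pow1_b89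
  · exact gt_pow1_b90
  · exact gt_pow1_b91
  · exact gt_pow1_b92
  · exact gt_pow1_b93
  · exact gt_pow1_b94
  · exact gt_pow1_b95
  · exact gt_pow1_b96
  · exact gt_pow1_b97
  · exact gt_pow1_b98
  · exact gt_pow1_b99
  · exact gt_pow1_b100
  · exact gt_pow1_b101
  · exact gt_pow1_b102
  · exact gt_pow1_b103
  · exact gt_pow1_b104
  · exact gt_pow1_b105
  · exact gt_pow1_b106
  · exact gt_pow1_b107
  · exact gt_pow1_b108
  · exact gt_pow1_b109
  · exact gt_pow1_b110
  · exact gt_pow1_b111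
  · exact gt_pow1_b112
  · exact gt_pow1_b113
  · exact gt_pow1_b114
  · exact gt_pow1_b115
  · exact gt_pow1_b116
  · exact gt_pow1_b117
  · exact gt_pow1_b118
  · exact gt_pow1_b119
  · exact gt_pow1_b120
  · exact gt_pow1_b121
  · exact gt_pow1_b122
  · exact gt_pow1_b123

theorem gt_pow2 : ∀ p, p < 31671 → gt_pf2 p = true := by
  apply allR_blocks gt_pf2 31671 8 124 _ (by decide)
  intro k hk
  interval_cases k
  · exact gt_pow2_b0
  · exact gt_pow2_b1
  · exact gt_pow2_b2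
  · exact gt_pow2_b3
  · exact gt_pow2_b4
  · exact gt_pow2_b5
  · exact gt_pow2_b6
  · exact gt_pow2_b7
  · exact gt_pow2_b8
  · exact gt_pow2_b9
  · exact gt_pow2_b10
  · exact gt_pow2_b11
  · exact gt_pow2_b12
  · exact gt_pow2_b13
  · exact gt_pow2_b14
  · exact gt_pow2_b15
  · exact gt_pow2_b16
  · exact gt_pow2_b17
  · exact gt_pow2_b18
  · exact gt_pow2_b19
  · exact gt_pow2_b20
  · exact gt_pow2_b21
  · exact gt_pow2_b22
  · exact gt_pow2_b23
  · exact gt_pow2_b24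
  · exact gt_pow2_b25
  · exact gt_pow2_b26
  · exact gt_pow2_b27
  · exact gt_pow2_b28
  · exact gt_pow2_b29
  · exact gt_pow2_b30
  · exact gt_pow2_b31
  · exact gt_pow2_b32
  · exact gt_pow2_b33
  · exact gt_pow2_b34
  · exact gt_pow2_b35
  · exact gt_pow2_b36
  · exact gt_pow2_b37
  · exact gt_pow2_b38
  · exact gt_pow2_b39
  · exact gt_pow2_b40
  · exact gt_pow2_b41
  · exact gt_pow2_b42
  · exact gt_pow2_b43
  · exact gt_pow2_b44
  · exact gt_pow2_b45
  · exact gt_pow2_b46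
  · exact gt_pow2_b47
  · exact gt_pow2_b48
  · exact gt_pow2_b49
  · exact gt_pow2_b50
  · exact gt_pow2_b51
  · exact gt_pow2_b52
  · exact gt_pow2_b53
  · exact gt_pow2_b54
  · exact gt_pow2_b55
  · exact gt_pow2_b56
  · exact gt_pow2_b57
  · exact gt_pow2_b58
  · exact gt_pow2_b59
  · exact gt_pow2_b60
  · exact gt_pow2_b61
  · exact gt_pow2_b62
  · exact gt_pow2_b63
  · exact gt_pow2_b64
  · exact gt_pow2_b65
  · exact gt_pow2_b66
  · exact gt_pow2_b67
  · exact gt_pow2_b68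
  · exact gt_pow2_b69
  · exact gt_pow2_b70
  · exact gt_pow2_b71
  · exact gt_pow2_b72
  · exact gt_pow2_b73
  · exact gt_pow2_b74
  · exact gt_pow2_b75
  · exact gt_pow2_b76
  · exact gt_pow2_b77
  · exact gt_pow2_b78
  · exact gt_pow2_b79
  · exact gt_pow2_b80
  · exact gt_pow2_b81
  · exact gt_pow2_b82
  · exact gt_pow2_b83
  · exact gt_pow2_b84
  · exact gt_pow2_b85
  · exact gt_pow2_b86
  · exact gt_pow2_b87
  · exact gt_pow2_b88
  · exact gt_pow2_b89
  · exact gt_pow2_b90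
  · exact gt_pow2_b91
  · exact gt_pow2_b92
  · exact gt_pow2_b93
  · exact gt_pow2_b94
  · exact gt_pow2_b95
  · exact gt_pow2_b96
  · exact gt_pow2_b97
  · exact gt_pow2_b98
  · exact gt_pow2_b99
  · exact gt_pow2_b100
  · exact gt_pow2_b101
  · exact gt_pow2_b102
  · exact gt_pow2_b103
  · exact gt_pow2_b104
  · exact gt_pow2_b105
  · exact gt_pow2_b106
  · exact gt_pow2_b107
  · exact gt_pow2_b108
  · exact gt_pow2_b109
  · exact gt_pow2_b110
  · exact gt_pow2_b111
  · exact gt_pow2_b112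
  · exact gt_pow2_b113
  · exact gt_pow2_b114
  · exact gt_pow2_b115
  · exact gt_pow2_b116
  · exact gt_pow2_b117
  · exact gt_pow2_b118
  · exact gt_pow2_b119
  · exact gt_pow2_b120
  · exact gt_pow2_b121
  · exact gt_pow2_b122
  · exact gt_pow2_b123

end Cfsg.Agent.H10.Fi23T
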