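import Cfsg.Agent.H10.Fi23T.G5.RAll
import Cfsg.Agent.H10.Fi23T.G6.RAll
import Cfsg.Agent.H10.Fi23T.G7.RAll
import Cfsg.Agent.H10.Fi23T.G8.RAll
import Cfsg.Agent.H10.Fi23T.G9.RAll
import Cfsg.Agent.H35.T1689.RAll
import Cfsg.Agent.H35.T1689.PAll

/-!
# Upper bound for the order from a tower of coset enumerations (helper10; generated)
-/

set_option autoImplicit false

namespace Cfsg.Agent.H10.Fi23T

open Cfsg.Agent.H35 Cfsg.Spor Cfsg.Agent.H10

theorem g5_bound : Finite (WG g5_rws g5_prels) ∧ Nat.card (WG g5_rws g5_prels) ≤ 1920 := by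
  have hy : RHyp g5_rd (swGrp (wgGen g5_rws g5_prels) g5_rsw) (wgGen g5_rws g5_prels) := by
    refine ⟨wg_inv _ _, fi23_gof_gi, by decide, fun p hp => wrapRow_of_le _ _ p hp, ?_, ?_,
      g5_h0, by decide⟩
    · exact circTab_valid _ (wg_inv _ _) _ (wg_full_one _ _) g5_circT g5_ccert g5_circ_ok
    · exact hcTab_valid _ (wg_inv _ _) _ g5_rsw
        (fun w hw => mem_swGrp _ _ w hw) g5_hc1T g5_hc2T _
        (fun c hc => allR_sound _ _ _ 0 g5_hc_ok c (Nat.zero_le _) (by omega) hc)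
  have hb := replay_bound hy fi23_gens_all (wg_closure _ _) (by decide) (by decide) g5_rall
  exact card_le_of_trivial (wgGen g5_rws g5_prels) 1920 hb

theorem g6_bound : Finite (WG g6_rws g6_prels) ∧ Nat.card (WG g6_rws g6_prels) ≤ 27 * (1920) := by
  have hy : RHyp g6_rd (swGrp (wgGen g6_rws g6_prels) g6_rsw) (wgGen g6_rws g6_prels) := by
    refine ⟨wg_inv _ _, fi23_gof_gi, by decide, fun p hp => wrapRow_of_le _ _ p hp, ?_, ?_,
      g6_h0, by decide⟩
    · exact circTab_valid _ (wg_inv _ _) _ (wg_full_one _ _) g6_circT g6_ccert g6_circ_ok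
    · exact hcTab_valid _ (wg_inv _ _) _ g6_rsw
        (fun w hw => mem_swGrp _ _ w hw) g6_hc1T g6_hc2T _
        (fun c hc => allR_sound _ _ _ 0 g6_hc_ok c (Nat.zero_le _) (by omega) hc)
  have hb := replay_bound hy fi23_gens_all (wg_closure _ _) (by decide) (by decide) g6_rall
  obtain ⟨φ, hφ⟩ := sub_hom g5_S (wgGen g6_rws g6_prels) (wg_inv _ _) g6_rws g6_prels
    g5_rws g5_prels (wg_rws _ _) (wg_prels _ _) (by decide)
  have := g5_bound.1
  exact card_le_tower _ 27 hb φ
    (swGrp_le_range _ (wgGen g5_rws g5_prels) g5_S φ hφ g6_rsw (by decide)) _ g5_bound.2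

theorem g7_bound : Finite (WG g7_rws g7_prels) ∧ Nat.card (WG g7_rws g7_prels) ≤ 243 * (27 * (1920)) := by
  have hy : RHyp g7_rd (swGrp (wgGen g7_rws g7_prels) g7_rsw) (wgGen g7_rws g7_prels) := by
    refine ⟨wg_inv _ _, fi23_gof_gi, by decide, fun p hp => wrapRow_of_le _ _ p hp, ?_, ?_,
      g7_h0, by decide⟩
    · exact circTab_valid _ (wg_inv _ _) _ (wg_full_one _ _) g7_circT g7_ccert g7_circ_ok
    · exact hcTab_valid _ (wg_inv _ _) _ g7_rsw
        (fun w hw => mem_swGrp _ _ w hw) g7_hc1T g7_hc2T _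
        (fun c hc => allR_sound _ _ _ 0 g7_hc_ok c (Nat.zero_le _) (by omega) hc)
  have hb := replay_bound hy fi23_gens_all (wg_closure _ _) (by decide) (by decide) g7_rall
  obtain ⟨φ, hφ⟩ := sub_hom g6_S (wgGen g7_rws g7_prels) (wg_inv _ _) g7_rws g7_prels
    g6_rws g6_prels (wg_rws _ _) (wg_prels _ _) (by decide)
  have := g6_bound.1
  exact card_le_tower _ 243 hb φ
    (swGrp_le_range _ (wgGen g6_rws g6_prels) g6_S φ hφ g7_rsw (by decide)) _ g6_bound.2

theorem g8_bound : Finite (WG g8_rws g8_prels) ∧ Nat.card (WG g8_rws g8_prels) ≤ 728 * (243 * (27 * (1920))) := by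
  have hy : RHyp g8_rd (swGrp (wgGen g8_rws g8_prels) g8_rsw) (wgGen g8_rws g8_prels) := by
    refine ⟨wg_inv _ _, fi23_gof_gi, by decide, fun p hp => wrapRow_of_le _ _ p hp, ?_, ?_,
      g8_h0, by decide⟩
    · exact circTab_valid _ (wg_inv _ _) _ (wg_full_one _ _) g8_circT g8_ccert g8_circ_ok
    · exact hcTab_valid _ (wg_inv _ _) _ g8_rsw
        (fun w hw => mem_swGrp _ _ w hw) g8_hc1T g8_hc2T _
        (fun c hc => allR_sound _ _ _ 0 g8_hc_ok c (Nat.zero_le _) (by omega) hc)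
  have hb := replay_bound hy fi23_gens_all (wg_closure _ _) (by decide) (by decide) g8_rall
  obtain ⟨φ, hφ⟩ := sub_hom g7_S (wgGen g8_rws g8_prels) (wg_inv _ _) g8_rws g8_prels
    g7_rws g7_prels (wg_rws _ _) (wg_prels _ _) (by decide)
  have := g7_bound.1
  exact card_le_tower _ 728 hb φ
    (swGrp_le_range _ (wgGen g7_rws g7_prels) g7_S φ hφ g8_rsw (by decide)) _ g7_bound.2

theorem g9_bound : Finite (WG g9_rws g9_prels) ∧ Nat.card (WG g9_rws g9_prels) ≤ 14080 * (728 * (243 * (27 * (1920)))) := by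
  have hy : RHyp g9_rd (swGrp (wgGen g9_rws g9_prels) g9_rsw) (wgGen g9_rws g9_prels) := by
    refine ⟨wg_inv _ _, fi23_gof_gi, by decide, fun p hp => wrapRow_of_le _ _ p hp, ?_, ?_,
      g9_h0, by decide⟩
    · exact circTab_valid _ (wg_inv _ _) _ (wg_full_one _ _) g9_circT g9_ccert g9_circ_ok
    · exact hcTab_valid _ (wg_inv _ _) _ g9_rsw
        (fun w hw => mem_swGrp _ _ w hw) g9_hc1T g9_hc2T _
        (fun c hc => allR_sound _ _ _ 0 g9_hc_ok c (Nat.zero_le _) (by omega) hc)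
  have hb := replay_bound hy fi23_gens_all (wg_closure _ _) (by decide) (by decide) g9_rall
  obtain ⟨φ, hφ⟩ := sub_hom g8_S (wgGen g9_rws g9_prels) (wg_inv _ _) g9_rws g9_prels
    g8_rws g8_prels (wg_rws _ _) (wg_prels _ _) (by decide)
  have := g8_bound.1
  exact card_le_tower _ 14080 hb φ
    (swGrp_le_range _ (wgGen g8_rws g8_prels) g8_S φ hφ g9_rsw (by decide)) _ g8_bound.2

/-- the subgroup of the top enumeration -/
def Hs : Subgroup Fi23 := swGrp fi23_gen t1689_sw

theorem t1689_hsw : t1689_rsw = t1689_sw := by decide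

theorem top_hyp : TCHyp fi23_gen Hs t1689_pd t1689_rd fi23_rws fi23_prels t1689_sw where
  UP := fun f hf h1 h2 => fi23_UP f hf h1 h2
  hP := by
    refine ⟨by decide, fi23_gens_all, ?_, t1689_psub⟩
    intro p hp
    have h : (t1689_pd.ptOK fi23_rws fi23_prels p && t1689_pd.orbOK t1689_sw t1689_roots p) = true :=
      t1689_pall p hp
    exact (Bool.and_eq_true_iff.mp h).1
  hy := by
    refine ⟨fi23_inv, fi23_gof_gi, by decide, fun p hp => wrapRow_of_le _ _ p hp, ?_, ?_,
      t1689_h0, by decide⟩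
    · exact circTab_valid fi23_gen fi23_inv _ fi23_full_one t1689_circT t1689_ccert t1689_circ_ok
    · refine hcTab_valid fi23_gen fi23_inv Hs t1689_rsw ?_ t1689_hc1T t1689_hc2T _
        (fun c hc => allR_sound _ _ _ 0 t1689_hc_ok c (Nat.zero_le _) (by omega) hc)
      intro w hw
      rw [t1689_hsw] at hw
      exact mem_swGrp _ _ w hw
  hgensR := fi23_gens_all
  hgen := fi23_closure
  hN := by decide
  hNM := by decide
  hNN := rfl
  hchk := t1689_rall
  hH := rfl

theorem top_bound : Finite Fi23 ∧ Nat.card Fi23 ≤ 4089470473293004800 := by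
  have hb := replay_bound top_hyp.hy fi23_gens_all fi23_closure (by decide) (by decide) t1689_rall
  obtain ⟨φ, hφ⟩ := sub_hom g9_S fi23_gen fi23_inv fi23_rws fi23_prels
    g9_rws g9_prels (fi23_list_of_sat _ fi23_sat).1 (fi23_list_of_sat _ fi23_sat).2 (by decide)
  have := g9_bound.1
  have := card_le_tower Hs 31671 hb φ
    (swGrp_le_range _ (wgGen g9_rws g9_prels) g9_S φ hφ t1689_sw (by decide)) _ g9_bound.2
  exact this

end Cfsg.Agent.H10.Fi23T
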